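import Groth.Agent.Coherent.Chow
import Groth.Agent.Coherent.ProjSpaceFinite
import Groth.Agent.Coherent.ProjSpaceBase
import Mathlib.AlgebraicGeometry.Limits

/-!
# A topological Chow lemma over an arbitrary ring

A separated scheme of finite type over a ring `A` is covered by finitely many closed subsets of its
products with schemes `M ×_ℤ A`, `M` proper over `ℤ`, on which the projection to `M ×_ℤ A` is
injective.
-/

set_option autoImplicit false

universe u

open CategoryTheory CategoryTheory.Limits AlgebraicGeometry TopologicalSpace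

namespace Groth.Agent.Et18.ProperClopen

/-- The structure map to `Spec ℤ`. -/
noncomputable abbrev toZ (M : Scheme.{u}) : M ⟶ Spec (CommRingCat.of (ULift.{u} ℤ)) :=
  specULiftZIsTerminal.from M

/-- Finite products of projective spaces over `ℤ`. -/
theorem exists_product_tower :
    ∀ (k : ℕ) (N : Fin k → ℕ), ∃ (M : Scheme.{u}) (q : ∀ i, M ⟶ CohB1.ProjSpace (N i) (ULift.{u} ℤ)),
      IsProper (toZ M) ∧ ∀ (U : Scheme.{u}) (e : ∀ i, U ⟶ CohB1.ProjSpace (N i) (ULift.{u} ℤ)),
        ∃ j : U ⟶ M, ∀ i, j ≫ q i = e i := by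
  intro k
  induction k with
  | zero =>
    intro N
    refine ⟨Spec (CommRingCat.of (ULift.{u} ℤ)), fun i => i.elim0, ?_,
      fun U e => ⟨toZ U, fun i => i.elim0⟩⟩
    rw [show toZ (Spec (CommRingCat.of (ULift.{u} ℤ))) = 𝟙 _ from specULiftZIsTerminal.hom_ext _ _]
    infer_instance
  | succ k ih =>
    intro N
    obtain ⟨M, q, hM, hlift⟩ := ih (fun i => N i.castSucc)
    let t := CohB1.ProjSpace.toSpec (N (Fin.last k)) (ULift.{u} ℤ)
    have := Coherent.isProper_projSpace_toSpec (N (Fin.last k)) (ULift.{u} ℤ)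
    refine ⟨pullback (toZ M) t,
      Fin.lastCases (pullback.snd _ _) (fun i => pullback.fst _ _ ≫ q i), ?_, fun U e => ?_⟩
    · rw [show toZ (pullback (toZ M) t) = pullback.fst _ _ ≫ toZ M from
        specULiftZIsTerminal.hom_ext _ _]
      infer_instance
    · obtain ⟨j, hj⟩ := hlift U (fun i => e i.castSucc)
      refine ⟨pullback.lift j (e (Fin.last k)) (specULiftZIsTerminal.hom_ext _ _), fun i => ?_⟩
      induction i using Fin.lastCases with
      | last => simp only [Fin.lastCases_last]; exact pullback.lift_snd _ _ _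
      | cast i => simp only [Fin.lastCases_castSucc]; rw [pullback.lift_fst_assoc, hj]

variable {A : Type u} [CommRing A]

/-- `M ×_ℤ A`. -/
noncomputable abbrev MA (A : Type u) [CommRing A] (M : Scheme.{u}) : Scheme.{u} :=
  pullback (toZ M) (toZ (Spec (CommRingCat.of A)))

/-- Its structure map. -/
noncomputable abbrev gA (A : Type u) [CommRing A] (M : Scheme.{u}) :
    MA A M ⟶ Spec (CommRingCat.of A) :=
  pullback.snd _ _

set_option maxHeartbeats 1000000 in
/-- The topological Chow lemma. -/
theorem exists_chow_cover {X : Scheme.{u}} (f : X ⟶ Spec (CommRingCat.of A)) [IsSeparated f]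
    [LocallyOfFiniteType f] [QuasiCompact f] :
    ∃ (κ : Type) (_ : Finite κ) (M : κ → Scheme.{u}) (_ : ∀ s, IsProper (toZ (M s)))
      (E : ∀ s, Set ↥(pullback f (gA A (M s)))),
      (∀ s, IsClosed (E s)) ∧ (∀ s, Set.InjOn (pullback.snd f (gA A (M s))) (E s)) ∧
      ∀ x : X, ∃ s, x ∈ pullback.fst f (gA A (M s)) '' E s := by
  classical
  have : CompactSpace X := QuasiCompact.compactSpace_of_compactSpace f
  have hnb : ∀ z : X, ∃ V : X.Opens, IsAffineOpen V ∧ z ∈ V := fun z => by
    obtain ⟨V, hV, hz, -⟩ := Opens.isBasis_iff_nbhd.mp X.isBasis_affineOpens (Opens.mem_top z)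
    exact ⟨V, hV, hz⟩
  choose V hV hzV using hnb
  obtain ⟨t, ht⟩ := CompactSpace.isCompact_univ.elim_finite_subcover (fun z : X => (V z : Set X))
    (fun z => (V z).2) (fun z _ => Set.mem_iUnion.2 ⟨z, hzV z⟩)
  let k := t.card
  let Ui : Fin k → X.Opens := fun i => V (t.equivFin.symm i).1
  have hcov : ∀ z : X, ∃ i, z ∈ Ui i := fun z => by
    obtain ⟨w, hw, hz⟩ := Set.mem_iUnion₂.1 (ht (Set.mem_univ z))
    exact ⟨t.equivFin ⟨w, hw⟩, by simpa [Ui] using hz⟩
  have hUaff : ∀ i, IsAffine (Ui i : Scheme.{u}) := fun i => hV _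
  choose N e he hew using fun i => Coherent.exists_immersion_projSpace A ((Ui i).ι ≫ f)
  let : Algebra (ULift.{u} ℤ) A :=
    ((Int.castRingHom A).comp ULift.ringEquiv.toRingHom).toAlgebra
  have hP := fun i => Coherent.isPullback_projSpace (N i) (ULift.{u} ℤ) A
  let mem : Finset (Fin k) → X → Prop := fun s w => ∀ i, w ∈ Ui i ↔ i ∈ s
  choose M q hM hlift using fun s : Finset (Fin k) =>
    exists_product_tower.{u} s.card (fun l => N (s.equivFin.symm l).1)
  let g := fun s => gA A (M s)
  let q' : ∀ s (l : Fin s.card), MA A (M s) ⟶ CohB1.ProjSpace (N (s.equivFin.symm l).1) A :=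
    fun s l => (hP _).lift (pullback.fst _ _ ≫ q s l) (g s) (specULiftZIsTerminal.hom_ext _ _)
  have hq1 : ∀ s l, q' s l ≫ ((hP (s.equivFin.symm l).1).isoPullback.hom ≫ pullback.fst _ _) =
      pullback.fst _ _ ≫ q s l := fun s l =>
    (congrArg (q' s l ≫ ·) (IsPullback.isoPullback_hom_fst _)).trans ((hP _).lift_fst _ _ _)
  have hq2 : ∀ s l, q' s l ≫ CohB1.ProjSpace.toSpec (N (s.equivFin.symm l).1) A = g s :=
    fun s l => (hP _).lift_snd _ _ _
  let L : ∀ s, Set ↥(pullback f (g s)) := fun s =>
    {z | ∃ (w : X) (φ : Spec (X.residueField w) ⟶ pullback f (g s)), mem s w ∧ z ∈ Set.range φ ∧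
      φ ≫ pullback.fst _ _ = X.fromSpecResidueField w ∧
      ∀ l, ∃ a : Spec (X.residueField w) ⟶ (Ui (s.equivFin.symm l).1).toScheme,
        a ≫ (Ui (s.equivFin.symm l).1).ι = X.fromSpecResidueField w ∧
        φ ≫ pullback.snd _ _ ≫ q' s l = a ≫ e _}
  have hfstL : ∀ s z, z ∈ L s → mem s (pullback.fst f (g s) z) := by
    rintro s _ ⟨w, φ, hw, ⟨pt, rfl⟩, hφ, -⟩
    have : pullback.fst f (g s) (φ pt) = w := by
      rw [← Scheme.Hom.comp_apply, hφ]
      have : X.fromSpecResidueField w pt ∈ Set.range (X.fromSpecResidueField w) := ⟨pt, rfl⟩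
      rwa [Scheme.range_fromSpecResidueField] at this
    rwa [this]
  -- the graphs
  have key : ∀ s (l : Fin s.card), ∃ (K : Scheme.{u}) (δ : K ⟶ pullback f (g s)),
      Function.Injective (δ ≫ pullback.snd f (g s)) ∧
      ∀ z ∈ closure (L s), (pullback.fst f (g s) z ∈ Ui (s.equivFin.symm l).1 ∨
          q' s l (pullback.snd f (g s) z) ∈ (e (s.equivFin.symm l).1).coborderRange) →
        z ∈ Set.range δ ∧ q' s l (pullback.snd f (g s) z) ∈ (e (s.equivFin.symm l).1).coborderRange := by
    intro s l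
    let i := (s.equivFin.symm l).1
    have := Coherent.isProper_projSpace_toSpec (N i) A
    let O := (e i).coborderRange
    let a := (e i).liftCoborder
    have ha : a ≫ O.ι = e i := (e i).liftCoborder_ι
    let Q := q' s l ⁻¹ᵁ O
    let qQ : Q.toScheme ⟶ O.toScheme := q' s l ∣_ O
    have hqQ : qQ ≫ O.ι = Q.ι ≫ q' s l := morphismRestrict_ι (q' s l) O
    let K := pullback qQ a
    let δ : K ⟶ pullback f (g s) :=
      pullback.lift (pullback.snd qQ a ≫ (Ui i).ι) (pullback.fst qQ a ≫ Q.ι) (by
        rw [Category.assoc, Category.assoc, ← hew i, ← ha, Category.assoc,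
          ← pullback.condition_assoc, reassoc_of% hqQ, hq2 s l])
    have hδ1 : δ ≫ pullback.fst f (g s) = pullback.snd qQ a ≫ (Ui i).ι := pullback.lift_fst _ _ _
    have hδ2 : δ ≫ pullback.snd f (g s) = pullback.fst qQ a ≫ Q.ι := pullback.lift_snd _ _ _
    have hinj : Function.Injective (δ ≫ pullback.snd f (g s)) := by
      rw [hδ2]
      exact (pullback.fst qQ a ≫ Q.ι).isEmbedding.injective
    refine ⟨K, δ, hinj, ?_⟩
    have hrange : ∀ z, z ∈ Set.range δ → q' s l (pullback.snd f (g s) z) ∈ O := by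
      rintro _ ⟨y, rfl⟩
      rw [← Scheme.Hom.comp_apply δ, hδ2]
      exact (pullback.fst qQ a y).2
    have hLδ : L s ⊆ Set.range δ := by
      rintro _ ⟨w, φ, -, ⟨pt, rfl⟩, hφ, hφl⟩
      obtain ⟨b, hb, hbφ⟩ := hφl l
      have hQ : Set.range (φ ≫ pullback.snd f (g s)) ⊆ Set.range Q.ι := by
        rw [Scheme.Opens.range_ι]
        rintro _ ⟨y, rfl⟩
        change q' s l ((φ ≫ pullback.snd f (g s)) y) ∈ O
        rw [← Scheme.Hom.comp_apply, Category.assoc, hbφ, Scheme.Hom.comp_apply, ← ha]
        exact (a (b y)).2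
      let c := IsOpenImmersion.lift Q.ι (φ ≫ pullback.snd f (g s)) hQ
      have hc : c ≫ Q.ι = φ ≫ pullback.snd f (g s) := IsOpenImmersion.lift_fac _ _ _
      let m : Spec (X.residueField w) ⟶ K := pullback.lift c b (by
        rw [← cancel_mono O.ι, Category.assoc, Category.assoc, hqQ, ha, reassoc_of% hc, hbφ])
      have hm : m ≫ δ = φ := by
        apply pullback.hom_ext
        · rw [Category.assoc, hδ1, pullback.lift_snd_assoc, hb, hφ]
        · rw [Category.assoc, hδ2, pullback.lift_fst_assoc, hc]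
      exact ⟨m pt, by rw [← Scheme.Hom.comp_apply, hm]⟩
    rintro z hz (hz1 | hz2)
    · -- the graph is closed over `U_i`
      let R := pullback.fst f (g s) ⁻¹ᵁ Ui i
      let α := R.ι ≫ pullback.snd f (g s) ≫ q' s l
      let β := (pullback.fst f (g s) ∣_ Ui i) ≫ e i
      have hαβ : α ≫ CohB1.ProjSpace.toSpec (N i) A = β ≫ CohB1.ProjSpace.toSpec (N i) A := by
        simp only [α, β, Category.assoc]
        rw [hq2 s l, hew i, morphismRestrict_ι_assoc, pullback.condition]
      let Δ := pullback.diagonal (CohB1.ProjSpace.toSpec (N i) A)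
      let ε := pullback.fst (pullback.lift α β hαβ) Δ
      have : IsClosedImmersion ε := inferInstance
      have hεeq : ε ≫ α = ε ≫ β := by
        have h := pullback.condition (f := pullback.lift α β hαβ) (g := Δ)
        have h1 := congr($h ≫ pullback.fst _ _)
        have h2 := congr($h ≫ pullback.snd _ _)
        simp only [Category.assoc, pullback.lift_fst, pullback.lift_snd, Δ, pullback.diagonal_fst,
          pullback.diagonal_snd, Category.comp_id] at h1 h2
        exact h1.trans h2.symm
      have hεδ : ∀ y, R.ι (ε y) ∈ Set.range δ := by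
        intro y
        have hQ : Set.range (ε ≫ R.ι ≫ pullback.snd f (g s)) ⊆ Set.range Q.ι := by
          rw [Scheme.Opens.range_ι]
          rintro _ ⟨y', rfl⟩
          change q' s l ((ε ≫ R.ι ≫ pullback.snd f (g s)) y') ∈ O
          rw [← Scheme.Hom.comp_apply, Category.assoc, Category.assoc]
          change (ε ≫ α) y' ∈ O
          rw [hεeq]
          change e i ((ε ≫ (pullback.fst f (g s) ∣_ Ui i)) y') ∈ O
          rw [← ha]
          exact (a _).2
        let c := IsOpenImmersion.lift Q.ι (ε ≫ R.ι ≫ pullback.snd f (g s)) hQ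
        have hc : c ≫ Q.ι = ε ≫ R.ι ≫ pullback.snd f (g s) := IsOpenImmersion.lift_fac _ _ _
        let m : pullback (pullback.lift α β hαβ) Δ ⟶ K :=
          pullback.lift c (ε ≫ (pullback.fst f (g s) ∣_ Ui i)) (by
            rw [← cancel_mono O.ι, Category.assoc, Category.assoc, Category.assoc, hqQ, ha,
              reassoc_of% hc]
            exact hεeq)
        have hm : m ≫ δ = ε ≫ R.ι := by
          apply pullback.hom_ext
          · rw [Category.assoc, hδ1, pullback.lift_snd_assoc, Category.assoc, morphismRestrict_ι,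
              Category.assoc]
          · rw [Category.assoc, hδ2, pullback.lift_fst_assoc, hc, Category.assoc]
        exact ⟨m y, by rw [← Scheme.Hom.comp_apply, hm]; rfl⟩
      have hsub : R.ι ⁻¹' L s ⊆ Set.range ε := by
        intro r hr
        obtain ⟨y, hy⟩ := hLδ hr
        have hR : Set.range δ ⊆ Set.range R.ι := by
          rw [Scheme.Opens.range_ι]
          rintro _ ⟨y', rfl⟩
          change pullback.fst f (g s) (δ y') ∈ Ui i
          rw [← Scheme.Hom.comp_apply δ, hδ1]
          exact (pullback.snd qQ a y').2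
        let c := IsOpenImmersion.lift R.ι δ hR
        have hc : c ≫ R.ι = δ := IsOpenImmersion.lift_fac _ _ _
        have hc1 : c ≫ (pullback.fst f (g s) ∣_ Ui i) = pullback.snd qQ a := by
          rw [← cancel_mono (Ui i).ι, Category.assoc, morphismRestrict_ι, reassoc_of% hc, hδ1]
        have heq : c ≫ α = c ≫ β := by
          simp only [α, β, reassoc_of% hc, reassoc_of% hc1, reassoc_of% hδ2]
          rw [← hqQ, ← ha, pullback.condition_assoc]
        let n : K ⟶ pullback (pullback.lift α β hαβ) Δ := pullback.lift c (c ≫ β) (by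
          apply pullback.hom_ext <;>
            simp only [Category.assoc, pullback.lift_fst, pullback.lift_snd, Δ, pullback.diagonal_fst,
              pullback.diagonal_snd, Category.comp_id, heq])
        refine ⟨n y, R.ι.isOpenEmbedding.injective ?_⟩
        rw [← hy, ← Scheme.Hom.comp_apply, ← Scheme.Hom.comp_apply, pullback.lift_fst_assoc, hc]
      have h1 : (⟨z, hz1⟩ : R.toScheme) ∈ closure (R.ι ⁻¹' L s) := by
        rw [← R.ι.isOpenEmbedding.isOpenMap.preimage_closure_eq_closure_preimage R.ι.continuous]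
        exact hz
      obtain ⟨y, hy⟩ := closure_minimal hsub ε.isClosedEmbedding.isClosed_range h1
      have hzδ : z ∈ Set.range δ := by
        have := hεδ y
        rwa [hy] at this
      exact ⟨hzδ, hrange z hzδ⟩
    · -- the graph is closed over the open set of `P^n`
      let Q' := pullback.snd f (g s) ⁻¹ᵁ Q
      have hR : Set.range δ ⊆ Set.range Q'.ι := by
        rw [Scheme.Opens.range_ι]
        exact hrange
      let c := IsOpenImmersion.lift Q'.ι δ hR
      have hc : c ≫ Q'.ι = δ := IsOpenImmersion.lift_fac _ _ _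
      have : IsClosedImmersion (c ≫ (pullback.snd f (g s) ∣_ Q)) := by
        rw [show c ≫ (pullback.snd f (g s) ∣_ Q) = pullback.fst qQ a by
          rw [← cancel_mono Q.ι, Category.assoc, morphismRestrict_ι, reassoc_of% hc, hδ2]]
        infer_instance
      have : IsSeparated (pullback.snd f (g s) ∣_ Q) := inferInstance
      have : IsClosedImmersion c := IsClosedImmersion.of_comp c (pullback.snd f (g s) ∣_ Q)
      have hsub : Q'.ι ⁻¹' L s ⊆ Set.range c := by
        intro r hr
        obtain ⟨y, hy⟩ := hLδ hr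
        refine ⟨y, Q'.ι.isOpenEmbedding.injective ?_⟩
        rw [← hy, ← Scheme.Hom.comp_apply, hc]
      have h1 : (⟨z, hz2⟩ : Q'.toScheme) ∈ closure (Q'.ι ⁻¹' L s) := by
        rw [← Q'.ι.isOpenEmbedding.isOpenMap.preimage_closure_eq_closure_preimage Q'.ι.continuous]
        exact hz
      obtain ⟨y, hy⟩ := closure_minimal hsub c.isClosedEmbedding.isClosed_range h1
      refine ⟨⟨y, ?_⟩, hz2⟩
      have := congrArg Q'.ι hy
      rwa [← Scheme.Hom.comp_apply, hc] at this
  refine ⟨Finset (Fin k), inferInstance, M, hM, fun s => closure (L s), fun s => isClosed_closure,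
    fun s => ?_, fun x => ?_⟩
  · intro z hz z' hz' heq
    obtain ⟨i, hi⟩ := hcov (pullback.fst f (g s) z)
    have his : i ∈ s := by
      obtain ⟨w, hwU, hw⟩ := mem_closure_iff.1 hz (pullback.fst f (g s) ⁻¹' (Ui i : Set X))
        ((Ui i).2.preimage (pullback.fst f (g s)).continuous) hi
      exact (hfstL s w hw i).1 hwU
    obtain ⟨l, rfl⟩ : ∃ l, (s.equivFin.symm l).1 = i :=
      ⟨s.equivFin ⟨i, his⟩, congrArg Subtype.val (s.equivFin.symm_apply_apply _)⟩
    obtain ⟨K, δ, hinj, hδ⟩ := key s l
    obtain ⟨⟨y, rfl⟩, hO⟩ := hδ z hz (Or.inl hi)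
    obtain ⟨⟨y', rfl⟩, -⟩ := hδ z' hz' (Or.inr (heq ▸ hO))
    exact congrArg δ (hinj heq)
  · let s : Finset (Fin k) := Finset.univ.filter fun i => x ∈ Ui i
    have hmem : mem s x := fun i => by simp [s]
    have hx : ∀ l, Set.range (X.fromSpecResidueField x) ⊆ Set.range (Ui (s.equivFin.symm l).1).ι :=
      fun l => by
        rw [Scheme.range_fromSpecResidueField, Scheme.Opens.range_ι, Set.singleton_subset_iff]
        exact (hmem _).2 (s.equivFin.symm l).2
    let b := fun l => IsOpenImmersion.lift (Ui (s.equivFin.symm l).1).ι (X.fromSpecResidueField x) (hx l)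
    have hb : ∀ l, b l ≫ (Ui (s.equivFin.symm l).1).ι = X.fromSpecResidueField x :=
      fun l => IsOpenImmersion.lift_fac _ _ _
    obtain ⟨j, hj⟩ := hlift s (Spec (X.residueField x)) (fun l => b l ≫ e _ ≫ (hP _).isoPullback.hom ≫ pullback.fst _ _)
    let jA : Spec (X.residueField x) ⟶ MA A (M s) :=
      pullback.lift j (X.fromSpecResidueField x ≫ f) (specULiftZIsTerminal.hom_ext _ _)
    let φ : Spec (X.residueField x) ⟶ pullback f (g s) :=
      pullback.lift (X.fromSpecResidueField x) jA (pullback.lift_snd _ _ _).symm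
    obtain ⟨pt⟩ : Nonempty (Spec (X.residueField x)) := inferInstance
    have hzL : φ pt ∈ L s := by
      refine ⟨x, φ, hmem, ⟨pt, rfl⟩, pullback.lift_fst _ _ _, fun l => ⟨b l, hb l, ?_⟩⟩
      rw [pullback.lift_snd_assoc]
      have h1 : (jA ≫ q' s l) ≫ ((hP (s.equivFin.symm l).1).isoPullback.hom ≫ pullback.fst _ _) =
          (b l ≫ e _) ≫ ((hP (s.equivFin.symm l).1).isoPullback.hom ≫ pullback.fst _ _) :=
        (Category.assoc _ _ _).trans ((congrArg (jA ≫ ·) (hq1 s l)).trans
          ((pullback.lift_fst_assoc _ _ _ _).trans ((hj l).trans (Category.assoc _ _ _).symm)))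
      have h2 : (jA ≫ q' s l) ≫ CohB1.ProjSpace.toSpec (N (s.equivFin.symm l).1) A =
          (b l ≫ e _) ≫ CohB1.ProjSpace.toSpec (N (s.equivFin.symm l).1) A :=
        (Category.assoc _ _ _).trans ((congrArg (jA ≫ ·) (hq2 s l)).trans
          ((pullback.lift_snd _ _ _).trans
            ((congrArg (· ≫ f) (hb l)).symm.trans ((Category.assoc _ _ _).trans
              ((congrArg (b l ≫ ·) (hew _)).symm.trans (Category.assoc _ _ _).symm)))))
      exact (hP _).hom_ext ((congrArg ((jA ≫ q' s l) ≫ ·) (IsPullback.isoPullback_hom_fst _).symm).trans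
        (h1.trans (congrArg ((b l ≫ e _) ≫ ·) (IsPullback.isoPullback_hom_fst _)))) h2
    refine ⟨s, φ pt, subset_closure hzL, ?_⟩
    rw [← Scheme.Hom.comp_apply, pullback.lift_fst]
    have : X.fromSpecResidueField x pt ∈ Set.range (X.fromSpecResidueField x) := ⟨pt, rfl⟩
    rwa [Scheme.range_fromSpecResidueField] at this

end Groth.Agent.Et18.ProperClopen
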