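import Groth.Agent.Et18.ProperClopen.Main
import Mathlib.Topology.Spectral.Basic
import Mathlib.AlgebraicGeometry.Morphisms.QuasiSeparated

/-!
# Connected components and connectedness over henselian pairs
-/

set_option autoImplicit false

universe u

open CategoryTheory CategoryTheory.Limits AlgebraicGeometry TopologicalSpace

namespace Groth.Agent.Et18.ProperClopen

/-- In a compact quasi-separated prespectral space the connected component of a point is the
intersection of the open-closed sets containing it. -/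
theorem mem_connectedComponent_of_forall_isClopen {Y : Type*} [TopologicalSpace Y] [CompactSpace Y]
    [QuasiSeparatedSpace Y] [PrespectralSpace Y] {x y : Y}
    (h : ∀ C : Set Y, IsClopen C → x ∈ C → y ∈ C) : y ∈ connectedComponent x := by
  let ι := {C : Set Y // IsClopen C ∧ x ∈ C}
  have : Nonempty ι := ⟨⟨Set.univ, isClopen_univ, trivial⟩⟩
  let Q : Set Y := ⋂ C : ι, C.1
  have hQc : IsClosed Q := isClosed_iInter fun C => C.2.1.1
  have hdir : Directed (fun a b : Set Y => a ⊇ b) (fun C : ι => C.1) := fun a b =>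
    ⟨⟨a.1 ∩ b.1, a.2.1.inter b.2.1, a.2.2, b.2.2⟩, Set.inter_subset_left, Set.inter_subset_right⟩
  have hQ : _root_.IsPreconnected Q := by
    rw [isPreconnected_closed_iff]
    intro P P' hP hP' hcov hPne hP'ne
    by_contra hne
    have hd : ∀ z ∈ Q, z ∈ P → z ∉ P' := fun z hz h1 h2 => hne ⟨z, hz, h1, h2⟩
    obtain ⟨U, hUc, hUo, hAU, hUsub⟩ := PrespectralSpace.exists_isCompact_and_isOpen_between
      ((hQc.inter hP).isCompact) (hQc.inter hP').isOpen_compl
      (fun z hz h' => hd z hz.1 hz.2 h'.2)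
    obtain ⟨V, hVc, hVo, hBV, hVsub⟩ := PrespectralSpace.exists_isCompact_and_isOpen_between
      ((hQc.inter hP').isCompact) (hQc.inter hP).isOpen_compl
      (fun z hz h' => hd z hz.1 h'.2 hz.2)
    obtain ⟨C, hC⟩ := (QuasiSeparatedSpace.inter_isCompact _ _ hUo hUc hVo hVc).elim_directed_family_closed
      (fun C : ι => C.1) (fun C => C.2.1.1) (by
        refine Set.eq_empty_iff_forall_notMem.2 fun z ⟨⟨hzU, hzV⟩, hzQ⟩ => ?_
        rcases hcov hzQ with h1 | h1
        · exact hVsub hzV ⟨hzQ, h1⟩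
        · exact hUsub hzU ⟨hzQ, h1⟩) hdir
    obtain ⟨C', hC'⟩ := ((hUo.union hVo).isClosed_compl.isCompact).elim_directed_family_closed
      (fun C : ι => C.1) (fun C => C.2.1.1) (by
        refine Set.eq_empty_iff_forall_notMem.2 fun z ⟨hz, hzQ⟩ => hz ?_
        rcases hcov hzQ with h1 | h1
        · exact Or.inl (hAU ⟨hzQ, h1⟩)
        · exact Or.inr (hBV ⟨hzQ, h1⟩)) hdir
    have hxQ : x ∈ Q := Set.mem_iInter.2 fun C => C.2.2
    let E := C.1 ∩ C'.1
    have hE : IsClopen E := C.2.1.inter C'.2.1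
    have hEU : IsClopen (E ∩ U) := by
      refine ⟨?_, hE.2.inter hUo⟩
      have : E ∩ U = E ∩ Vᶜ := by
        ext z
        refine ⟨fun hz => ⟨hz.1, fun hzV => Set.eq_empty_iff_forall_notMem.1 hC z ⟨⟨hz.2, hzV⟩, hz.1.1⟩⟩,
          fun hz => ⟨hz.1, ?_⟩⟩
        by_contra hzU
        exact Set.eq_empty_iff_forall_notMem.1 hC' z ⟨fun h => h.elim hzU hz.2, hz.1.2⟩
      rw [this]
      exact hE.1.inter hVo.isClosed_compl
    have hEV : IsClopen (E \ (E ∩ U)) := hE.diff hEU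
    rcases hcov hxQ with h1 | h1
    · obtain ⟨w, hwQ, hwP'⟩ := hP'ne
      have := Set.mem_iInter.1 hwQ ⟨E ∩ U, hEU, ⟨⟨C.2.2, C'.2.2⟩, hAU ⟨hxQ, h1⟩⟩⟩
      exact hUsub this.2 ⟨hwQ, hwP'⟩
    · obtain ⟨w, hwQ, hwP⟩ := hPne
      have := Set.mem_iInter.1 hwQ ⟨E \ (E ∩ U), hEV,
        ⟨⟨C.2.2, C'.2.2⟩, fun h' => hUsub h'.2 ⟨hxQ, h1⟩⟩⟩
      exact this.2 ⟨this.1, hAU ⟨hwQ, hwP⟩⟩
  exact hQ.subset_connectedComponent (Set.mem_iInter.2 fun C => C.2.2)
    (Set.mem_iInter.2 fun C => h C.1 C.2.1 C.2.2)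

variable {A : Type u} [CommRing A] (I : Ideal A) [HenselianRing A I] {X : Scheme.{u}}
  (f : X ⟶ Spec (CommRingCat.of A)) [IsProper f]

/-- An open-closed set of the closed fibre is the restriction of one of the whole. -/
theorem exists_preimage_eq_of_isClopen {Y : Type u} [TopologicalSpace Y] (i : Y → X)
    (hi : Topology.IsClosedEmbedding i) (hrange : Set.range i = f ⁻¹' PrimeSpectrum.zeroLocus (I : Set A))
    {V : Set Y} (hV : IsClopen V) : ∃ D : Set X, IsClopen D ∧ i ⁻¹' D = V := by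
  obtain ⟨D, hD, hVD, hVD'⟩ := exists_clopen_lift I f (i '' V) (i '' Vᶜ)
    (hi.isClosedMap _ hV.1) (hi.isClosedMap _ hV.compl.1)
    (Set.disjoint_left.2 fun _ ⟨a, ha, e⟩ ⟨b, hb, e'⟩ => hb (hi.injective (e'.trans e.symm) ▸ ha))
    (by rw [← Set.image_union, Set.union_compl_self, Set.image_univ, hrange])
  refine ⟨D, hD, Set.ext fun y => ⟨fun h => ?_, fun h => hVD ⟨y, h, rfl⟩⟩⟩
  by_contra hy
  exact hVD' ⟨y, hy, rfl⟩ h

/-- Connected components of the closed fibre are those of the whole. -/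
theorem bijective_connectedComponentsMap {Y : Type u} [TopologicalSpace Y] [CompactSpace Y]
    [QuasiSeparatedSpace Y] [PrespectralSpace Y] (i : Y → X) (hi : Topology.IsClosedEmbedding i)
    (hrange : Set.range i = f ⁻¹' PrimeSpectrum.zeroLocus (I : Set A)) :
    Function.Bijective hi.continuous.connectedComponentsMap := by
  refine ⟨fun a b hab => ?_, fun c => ?_⟩
  · obtain ⟨x, rfl⟩ := ConnectedComponents.surjective_coe a
    obtain ⟨y, rfl⟩ := ConnectedComponents.surjective_coe b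
    rw [ConnectedComponents.coe_eq_coe']
    refine mem_connectedComponent_of_forall_isClopen fun C hC hyC => ?_
    obtain ⟨D, hD, rfl⟩ := exists_preimage_eq_of_isClopen I f i hi hrange hC
    exact hD.connectedComponent_subset hyC (ConnectedComponents.coe_eq_coe'.1 hab)
  · obtain ⟨x, rfl⟩ := ConnectedComponents.surjective_coe c
    obtain ⟨p, ⟨x', hx', rfl⟩, hp⟩ := exists_mem_zeroLocus_of_isClosed I
      (f.isClosedMap _ isClosed_connectedComponent) ⟨f x, x, mem_connectedComponent, rfl⟩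
    obtain ⟨y, rfl⟩ : x' ∈ Set.range i := hrange ▸ hp
    exact ⟨y, ConnectedComponents.coe_eq_coe'.2 hx'⟩

/-- The closure of a point meets the closed fibre in a connected set. -/
theorem isConnected_inter_closure (x : X) :
    _root_.IsConnected (f ⁻¹' PrimeSpectrum.zeroLocus (I : Set A) ∩ closure {x}) := by
  refine ⟨?_, ?_⟩
  · obtain ⟨p, ⟨x', hx', rfl⟩, hp⟩ := exists_mem_zeroLocus_of_isClosed I
      (f.isClosedMap _ (isClosed_closure (s := {x}))) ⟨f x, x, subset_closure rfl, rfl⟩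
    exact ⟨x', hp, hx'⟩
  rw [isPreconnected_closed_iff]
  intro P P' hP hP' hcov hPne hP'ne
  by_contra hne
  let T : Closeds X := ⟨closure {x}, isClosed_closure⟩
  let ι := (Scheme.IdealSheafData.vanishingIdeal T).subschemeι
  have hι : Set.range ι = closure {x} := by
    simp only [ι, Scheme.IdealSheafData.range_subschemeι,
      Scheme.IdealSheafData.coe_support_vanishingIdeal, T]
    rfl
  let Z : Set _ := (ι ≫ f) ⁻¹' PrimeSpectrum.zeroLocus (I : Set A)
  have hZc : IsClosed Z := (PrimeSpectrum.isClosed_zeroLocus _).preimage (ι ≫ f).continuous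
  have hmem : ∀ y, y ∈ Z ↔ ι y ∈ f ⁻¹' PrimeSpectrum.zeroLocus (I : Set A) ∩ closure {x} := fun y =>
    ⟨fun h => ⟨h, hι ▸ ⟨y, rfl⟩⟩, fun h => h.1⟩
  obtain ⟨D, hD, hPD, hP'D⟩ := exists_clopen_lift I (ι ≫ f) (Z ∩ ι ⁻¹' P) (Z ∩ ι ⁻¹' P')
    (hZc.inter (hP.preimage ι.continuous)) (hZc.inter (hP'.preimage ι.continuous))
    (Set.disjoint_left.2 fun y hy hy' => hne ⟨ι y, (hmem y).1 hy.1, hy.2, hy'.2⟩)
    (Set.ext fun y => ⟨fun hy => (hcov ((hmem y).1 hy)).imp (⟨hy, ·⟩) (⟨hy, ·⟩),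
      fun hy => hy.elim And.left And.left⟩)
  obtain ⟨η, hη⟩ : x ∈ Set.range ι := hι ▸ subset_closure rfl
  have hspec : ∀ y, η ⤳ y := fun y => by
    rw [← ι.isClosedEmbedding.isInducing.specializes_iff, hη, specializes_iff_mem_closure, ← hι]
    exact ⟨y, rfl⟩
  obtain ⟨a, ⟨ha1, ha2⟩, haP⟩ := hPne
  obtain ⟨b, ⟨hb1, hb2⟩, hbP⟩ := hP'ne
  obtain ⟨a', rfl⟩ : a ∈ Set.range ι := hι ▸ ha2
  obtain ⟨b', rfl⟩ : b ∈ Set.range ι := hι ▸ hb2
  by_cases h : η ∈ D
  · exact hP'D ⟨hb1, hbP⟩ ((hspec b').mem_closed hD.1 h)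
  · exact (hspec a').mem_closed hD.compl.1 h (hPD ⟨ha1, haP⟩)

end Groth.Agent.Et18.ProperClopen
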