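import Mathlib.RingTheory.Adjoin.FG
import Mathlib.AlgebraicGeometry.Limits
import Mathlib.AlgebraicGeometry.Morphisms.Affine
import Mathlib.Algebra.Category.Ring.FilteredColimits
import Mathlib.CategoryTheory.Limits.Types.Filtered

/-!
# A ring is the limit of its finitely generated subrings
-/

set_option autoImplicit false

universe u

open CategoryTheory Limits AlgebraicGeometry

namespace Groth.Agent.Et18.ProperClopen

section General

variable {A : Type u} [CommRing A] {ι : Type u} [SemilatticeSup ι] (S : ι →o Subring A)

/-- A monotone family of subrings as a diagram. -/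
noncomputable def diag : ι ⥤ CommRingCat.{u} where
  obj i := CommRingCat.of (S i)
  map {i j} h := CommRingCat.ofHom (Subring.inclusion (S.monotone (leOfHom h)))
  map_id _ := rfl
  map_comp _ _ := rfl

/-- The cocone with point the ambient ring. -/
noncomputable def cocone : Cocone (diag S) where
  pt := CommRingCat.of A
  ι := { app := fun i => CommRingCat.ofHom (S i).subtype
         naturality := fun _ _ _ => rfl }

/-- It is a colimit if the family covers. -/
noncomputable def isColimitCocone [Nonempty ι] (hS : ∀ a : A, ∃ i, a ∈ S i) :
    IsColimit (cocone S) := by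
  have : ReflectsColimit (diag S) (forget CommRingCat.{u}) :=
    reflectsColimit_of_reflectsIsomorphisms _ _
  refine isColimitOfReflects (forget CommRingCat.{u}) (Types.FilteredColimit.isColimitOf _ _ ?_ ?_)
  · intro x
    obtain ⟨i, hi⟩ := hS x
    exact ⟨i, ⟨x, hi⟩, rfl⟩
  · intro i j xi xj h
    exact ⟨i ⊔ j, homOfLE le_sup_left, homOfLE le_sup_right, Subtype.ext h⟩

end General

variable (A : Type u) [CommRing A]

open scoped Classical in
/-- The finitely generated subrings. -/
@[irreducible] def fgRing : Finset A →o Subring A :=
  ⟨fun s => Subring.closure (s : Set A), fun _ _ h => Subring.closure_mono (Finset.coe_subset.2 h)⟩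

theorem fgRing_eq (s : Finset A) : fgRing A s = Subring.closure (s : Set A) := by
  unfold fgRing; rfl

/-- As a diagram of rings. -/
noncomputable abbrev ringDiagram : Finset A ⥤ CommRingCat.{u} :=
  haveI := Classical.decEq A; diag (fgRing A)

/-- The spectra. -/
noncomputable def specDiagram : (Finset A)ᵒᵖ ⥤ Scheme.{u} := (haveI := Classical.decEq A; (diag (fgRing A)).op ⋙ Scheme.Spec)

/-- Their limit cone. -/
noncomputable def specCone : Cone (specDiagram A) := haveI := Classical.decEq A; Scheme.Spec.mapCone (cocone (fgRing A)).op

/-- It is a limit. -/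
noncomputable def isLimitSpecCone : IsLimit (specCone A) :=
  haveI := Classical.decEq A; isLimitOfPreserves Scheme.Spec (isColimitCocone (fgRing A) fun a =>
    ⟨{a}, by rw [fgRing_eq]; exact Subring.subset_closure (Finset.mem_coe.2 (Finset.mem_singleton_self a))⟩).op

instance isAffineHom_specDiagram_map {i j : (Finset A)ᵒᵖ} (f : i ⟶ j) :
    IsAffineHom ((specDiagram A).map f) := inferInstanceAs (IsAffineHom (Spec.map _))

instance isNoetherianRing_fgRing (s : Finset A) : IsNoetherianRing (fgRing A s) := by
  rw [fgRing_eq]
  exact is_noetherian_subring_closure _ s.finite_toSet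

end Groth.Agent.Et18.ProperClopen
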