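import Groth.Agent.H8Lim.Constructible
import Mathlib.AlgebraicGeometry.Noetherian

/-!
# Separating closed sets of a limit at a stage
-/

set_option autoImplicit false

universe u

open CategoryTheory Limits AlgebraicGeometry Topology TopologicalSpace

namespace Groth.Agent.Et18.ProperClopen

variable {I : Type u} [SmallCategory I] [IsCofiltered I] {D : I ⥤ Scheme.{u}} {c : Cone D}
  (hc : IsLimit c) [∀ {i j} (f : i ⟶ j), IsAffineHom (D.map f)]

include hc in
/-- A closed subset of the limit is the intersection of the closures of its images. -/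
theorem mem_of_forall_mem_closure {C : Set c.pt} (hC : IsClosed C) {p : c.pt}
    (h : ∀ i, c.π.app i p ∈ closure (c.π.app i '' C)) : p ∈ C := by
  by_contra hp
  obtain ⟨U, ⟨i, V, -, rfl⟩, hpU, hUC⟩ := Opens.isBasis_iff_nbhd.1
    (isBasis_preimage_isAffineOpen D c hc) (U := ⟨Cᶜ, hC.isOpen_compl⟩) (x := p) hp
  obtain ⟨y, hyV, q, hqC, hq⟩ := mem_closure_iff.1 (h i) (V : Set (D.obj i)) V.2 hpU
  exact hUC (show q ∈ c.π.app i ⁻¹ᵁ V by change c.π.app i q ∈ V; rwa [hq]) hqC

include hc in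
/-- Disjoint closed sets of the limit covering the limit of a system of closed sets separate the
system at a stage. -/
theorem exists_separation [∀ i, CompactSpace (D.obj i)] [∀ i, IsLocallyNoetherian (D.obj i)]
    {V V' : Set c.pt} (hV : IsClosed V) (hV' : IsClosed V') (hd : Disjoint V V')
    (Z : ∀ i, Set (D.obj i)) (hZ : ∀ i, IsClosed (Z i))
    (hZm : ∀ {i j : I} (φ : j ⟶ i), Z j ⊆ D.map φ ⁻¹' Z i)
    (hZV : (⋂ i, c.π.app i ⁻¹' Z i) ⊆ V ∪ V') :
    ∃ (i : I) (W W' : Set (D.obj i)), IsClosed W ∧ IsClosed W' ∧ Disjoint W W' ∧ Z i ⊆ W ∪ W' ∧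
      V ⊆ c.π.app i ⁻¹' W ∧ V' ⊆ c.π.app i ⁻¹' W' := by
  have hne : Nonempty I := IsCofiltered.nonempty
  have hcomp : CompactSpace c.pt := Scheme.compactSpace_of_isLimit D c hc
  have hπ : ∀ {i j : I} (φ : j ⟶ i) (p : c.pt), D.map φ (c.π.app j p) = c.π.app i p := fun φ p => by
    rw [← Scheme.Hom.comp_apply, c.w φ]
  have hcl : ∀ {i j : I} (φ : j ⟶ i) (C : Set c.pt) (y : D.obj j),
      y ∈ closure (c.π.app j '' C) → D.map φ y ∈ closure (c.π.app i '' C) := fun φ C y hy => by
    refine closure_mono ?_ (image_closure_subset_closure_image (D.map φ).continuous ⟨y, hy, rfl⟩)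
    rintro _ ⟨_, ⟨q, hq, rfl⟩, rfl⟩
    exact ⟨q, hq, (hπ φ q).symm⟩
  let K : ∀ i, Set (D.obj i) := fun i => closure (c.π.app i '' V) ∩ closure (c.π.app i '' V')
  have hK : ∀ i, IsClosed (c.π.app i ⁻¹' K i) := fun i =>
    (isClosed_closure.inter isClosed_closure).preimage (c.π.app i).continuous
  obtain ⟨i, hi⟩ := hcomp.isCompact_univ.elim_directed_family_closed
    (fun i => c.π.app i ⁻¹' K i) hK (by
      refine Set.eq_empty_iff_forall_notMem.2 fun p hp => ?_
      have h := Set.mem_iInter.1 hp.2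
      exact Set.disjoint_left.1 hd (mem_of_forall_mem_closure hc hV fun i => (h i).1)
        (mem_of_forall_mem_closure hc hV' fun i => (h i).2))
    (fun a b => by
      obtain ⟨k, φ, ψ, -⟩ := IsCofilteredOrEmpty.cone_objs a b
      refine ⟨k, fun p hp => ?_, fun p hp => ?_⟩
      · change c.π.app a p ∈ K a
        rw [← hπ φ]
        exact ⟨hcl φ V _ hp.1, hcl φ V' _ hp.2⟩
      · change c.π.app b p ∈ K b
        rw [← hπ ψ]
        exact ⟨hcl ψ V _ hp.1, hcl ψ V' _ hp.2⟩)
  rw [Set.univ_inter] at hi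
  obtain ⟨j, φ, hj⟩ := H8Lim.exists_forall_map_notMem hc (i := i) (K := ⊤) isCompact_univ
    IsLocallyConstructible.univ (isClosed_closure.inter isClosed_closure : IsClosed (K i))
    (fun p _ _ hp => Set.eq_empty_iff_forall_notMem.1 hi p hp)
  let W : Set (D.obj j) := D.map φ ⁻¹' closure (c.π.app i '' V)
  let W' : Set (D.obj j) := D.map φ ⁻¹' closure (c.π.app i '' V')
  have hW : IsClosed W := isClosed_closure.preimage (D.map φ).continuous
  have hW' : IsClosed W' := isClosed_closure.preimage (D.map φ).continuous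
  have hWW' : Disjoint W W' :=
    Set.disjoint_left.2 fun x hx hx' => hj x trivial trivial ⟨hx, hx'⟩
  have hVW : V ⊆ c.π.app j ⁻¹' W := fun p hp => by
    show D.map φ (c.π.app j p) ∈ closure (c.π.app i '' V)
    rw [hπ]
    exact subset_closure ⟨p, hp, rfl⟩
  have hVW' : V' ⊆ c.π.app j ⁻¹' W' := fun p hp => by
    show D.map φ (c.π.app j p) ∈ closure (c.π.app i '' V')
    rw [hπ]
    exact subset_closure ⟨p, hp, rfl⟩
  let O : (D.obj j).Opens := ⟨(W ∪ W')ᶜ, (hW.union hW').isOpen_compl⟩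
  have := isAffineHom_π_app D c hc j
  have : AlgebraicGeometry.IsNoetherian (D.obj j) := {}
  have hOc : IsCompact (c.π.app j ⁻¹' (O : Set (D.obj j))) :=
    QuasiCompact.isCompact_preimage _ O.2 (NoetherianSpace.isCompact _)
  obtain ⟨l, hl⟩ := hOc.elim_directed_family_closed (fun i => c.π.app i ⁻¹' Z i)
    (fun i => (hZ i).preimage (c.π.app i).continuous) (by
      refine Set.eq_empty_iff_forall_notMem.2 fun p hp => hp.1 ?_
      rcases hZV hp.2 with h | h
      · exact Or.inl (hVW h)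
      · exact Or.inr (hVW' h))
    (fun a b => by
      obtain ⟨k, φ, ψ, -⟩ := IsCofilteredOrEmpty.cone_objs a b
      refine ⟨k, fun p hp => ?_, fun p hp => ?_⟩
      · change c.π.app a p ∈ Z a
        rw [← hπ φ]
        exact hZm φ hp
      · change c.π.app b p ∈ Z b
        rw [← hπ ψ]
        exact hZm ψ hp)
  obtain ⟨k, α, β, -⟩ := IsCofilteredOrEmpty.cone_objs j l
  have : AlgebraicGeometry.IsNoetherian (D.obj k) := {}
  obtain ⟨m, γ, hm⟩ := H8Lim.exists_forall_map_notMem hc (i := k) (K := D.map α ⁻¹ᵁ O)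
    (NoetherianSpace.isCompact _) IsLocallyConstructible.univ (hZ k) (fun p hp _ hpZ => by
      refine Set.eq_empty_iff_forall_notMem.1 hl p ⟨?_, ?_⟩
      · change c.π.app j p ∈ O
        rw [← hπ α]
        exact hp
      · change c.π.app l p ∈ Z l
        rw [← hπ β]
        exact hZm β hpZ)
  refine ⟨m, D.map (γ ≫ α) ⁻¹' W, D.map (γ ≫ α) ⁻¹' W', hW.preimage (D.map _).continuous,
    hW'.preimage (D.map _).continuous, hWW'.preimage _, fun x hx => ?_,
    fun p hp => ?_, fun p hp => ?_⟩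
  · have hxO : D.map (γ ≫ α) x ∉ O := fun hO => by
      rw [D.map_comp, Scheme.Hom.comp_apply] at hO
      exact hm x hO trivial (hZm γ hx)
    exact not_not.1 hxO
  · change D.map (γ ≫ α) (c.π.app m p) ∈ W
    rw [hπ]
    exact hVW hp
  · change D.map (γ ≫ α) (c.π.app m p) ∈ W'
    rw [hπ]
    exact hVW' hp

end Groth.Agent.Et18.ProperClopen
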