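import Groth.Agent.Et18.ProperClopen.Limit
import Groth.Agent.Et18.ProperClopen.Compactify
import Groth.Agent.Et18.ProperClopen.Subrings
import Groth.Agent.H8Lim.BaseChange
import Groth.Agent.HenselLib.ProperCouple
import Groth.Agent.HenselLib.HullNoeth

/-!
# Open and closed subsets lift along proper schemes over henselian pairs
-/

set_option autoImplicit false

universe u

open CategoryTheory CategoryTheory.Limits AlgebraicGeometry TopologicalSpace Opposite
open Groth.Agent.H8Lim Groth.Agent.HenselLib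

namespace Groth.Agent.Et18.ProperClopen

variable {A : Type u} [CommRing A] (I : Ideal A) [HenselianRing A I]

set_option maxHeartbeats 1000000 in
/-- The case of closed subsets of `M ×_ℤ A`, with respect to a family of Noetherian subrings. -/
theorem exists_lift_of_system {ι₀ : Type u} [SemilatticeSup ι₀] [OrderBot ι₀] (R : ι₀ →o Subring A)
    [∀ i, IsNoetherianRing (R i)] (hR : ∀ a : A, ∃ i, a ∈ R i) {M : Scheme.{u}} (hM : IsProper (toZ M))
    (T : Set (MA A M)) (hT : IsClosed T) (V V' : Set (MA A M)) (hV : IsClosed V) (hV' : IsClosed V')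
    (hd : Disjoint V V') (hTV : T ∩ gA A M ⁻¹' PrimeSpectrum.zeroLocus (I : Set A) = V ∪ V') :
    ∃ C C' : Set (MA A M), IsClosed C ∧ IsClosed C' ∧ Disjoint C C' ∧ T ⊆ C ∪ C' ∧ V ⊆ C ∧ V' ⊆ C' := by
  let D0 : ι₀ᵒᵖ ⥤ Scheme.{u} := (diag R).op ⋙ Scheme.Spec
  let c0 : Cone D0 := Scheme.Spec.mapCone (cocone R).op
  have hc0 : IsLimit c0 := isLimitOfPreserves Scheme.Spec (isColimitCocone R hR).op
  have : ∀ {i j : ι₀ᵒᵖ} (f : i ⟶ j), IsAffineHom (D0.map f) := fun f =>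
    inferInstanceAs (IsAffineHom (Spec.map _))
  let i₀ : ι₀ᵒᵖ := op ⊥
  let X0 := pullback (toZ M) (toZ (D0.obj i₀))
  let f₀ : X0 ⟶ D0.obj i₀ := pullback.snd _ _
  let q : MA A M ⟶ X0 :=
    pullback.lift (pullback.fst _ _) (gA A M ≫ c0.π.app i₀) (specULiftZIsTerminal.hom_ext _ _)
  have sq : IsPullback q (gA A M) f₀ (c0.π.app i₀) := by
    refine IsPullback.of_right ?_ (pullback.lift_snd _ _ _) (IsPullback.of_hasPullback _ _)
    have h : q ≫ pullback.fst (toZ M) (toZ (D0.obj i₀)) = pullback.fst _ _ := pullback.lift_fst _ _ _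
    rw [h]
    convert IsPullback.of_hasPullback (toZ M) (toZ (Spec (CommRingCat.of A)))
    exact specULiftZIsTerminal.hom_ext _ _
  let D := stage D0 f₀
  let c : Cone D := stageCone f₀ c0 q (gA A M) sq
  have hc : IsLimit c := isLimitStageCone f₀ q (gA A M) sq hc0
  have : IsProper f₀ := inferInstanceAs (IsProper (pullback.snd (toZ M) _))
  have hsnd : ∀ j, IsProper (stageSnd D0 f₀ j) := fun j =>
    inferInstanceAs (IsProper (pullback.snd f₀ _))
  have hN0 : ∀ i, IsLocallyNoetherian (D0.obj i) := fun i =>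
    inferInstanceAs (IsLocallyNoetherian (Spec (CommRingCat.of (R i.unop))))
  have : CompactSpace (D0.obj i₀) :=
    inferInstanceAs (CompactSpace (Spec (CommRingCat.of (R ⊥))))
  have hDN : ∀ j, IsLocallyNoetherian (D.obj j) := fun j =>
    LocallyOfFiniteType.isLocallyNoetherian (stageSnd D0 f₀ j)
  have : CompactSpace X0 := QuasiCompact.compactSpace_of_compactSpace f₀
  have hDc : ∀ j, CompactSpace (D.obj j) := fun j =>
    QuasiCompact.compactSpace_of_compactSpace (stageFst D0 f₀ j)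
  let ZL : ∀ j : Over i₀, Set (D0.obj j.left) := fun j =>
    (PrimeSpectrum.zeroLocus ((I.comap (R j.left.unop).subtype : Ideal (R j.left.unop)) :
      Set (R j.left.unop)) : Set (PrimeSpectrum (R j.left.unop)))
  let Z : ∀ j, Set (D.obj j) := fun j =>
    closure (c.π.app j '' T) ∩ stageSnd D0 f₀ j ⁻¹' ZL j
  have hZ : ∀ j, IsClosed (Z j) := fun j =>
    isClosed_closure.inter ((PrimeSpectrum.isClosed_zeroLocus _).preimage (stageSnd D0 f₀ j).continuous)
  have hsndπ : ∀ (j : Over i₀) (p : MA A M), stageSnd D0 f₀ j (c.π.app j p) =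
      PrimeSpectrum.comap (R j.left.unop).subtype (gA A M p) := fun j p =>
    congrArg (fun (m : MA A M ⟶ D0.obj j.left) => m p) (stageProj_snd f₀ c0 q (gA A M) sq j)
  have hZm : ∀ {i j : Over i₀} (φ : j ⟶ i), Z j ⊆ D.map φ ⁻¹' Z i := by
    intro i j φ x hx
    refine ⟨?_, ?_⟩
    · refine closure_mono ?_ (image_closure_subset_closure_image (D.map φ).continuous ⟨x, hx.1, rfl⟩)
      rintro _ ⟨_, ⟨t, ht, rfl⟩, rfl⟩
      exact ⟨t, ht, congrArg (fun (m : MA A M ⟶ D.obj i) => m t) (c.w φ).symm⟩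
    · have h : stageSnd D0 f₀ i (D.map φ x) = D0.map φ.left (stageSnd D0 f₀ j x) :=
        congrArg (fun (m : D.obj j ⟶ D0.obj i.left) => m x) (stageMap_snd D0 f₀ φ)
      change stageSnd D0 f₀ i (D.map φ x) ∈ ZL i
      rw [h]
      intro a ha
      exact hx.2 (show (Subring.inclusion (R.monotone (leOfHom φ.left.unop)) a) ∈
        ((I.comap (R j.left.unop).subtype : Ideal _) : Set _) from ha)
  have hZV : (⋂ j, c.π.app j ⁻¹' Z j) ⊆ V ∪ V' := by
    intro p hp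
    rw [← hTV]
    refine ⟨mem_of_forall_mem_closure hc hT fun j => (Set.mem_iInter.1 hp j).1, fun a ha => ?_⟩
    obtain ⟨l, hl⟩ := hR a
    let j : Over i₀ := Over.mk (homOfLE (bot_le : (⊥ : ι₀) ≤ l)).op
    have h : stageSnd D0 f₀ j (c.π.app j p) ∈ ZL j := (Set.mem_iInter.1 hp j).2
    rw [hsndπ j p] at h
    exact h (show (⟨a, hl⟩ : R l) ∈ _ from ha)
  obtain ⟨j, W, W', hW, hW', hWW', hZW, hVW, hVW'⟩ := exists_separation hc hV hV' hd Z hZ hZm hZV
  -- base change to the henselization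
  let s := j.left.unop
  let J : Ideal (R s) := I.comap (R s).subtype
  obtain ⟨hH, huniv⟩ := isPairHull_pairH (R s) J
  have : IsNoetherianRing (PairH (R s) J) := isNoetherianRing_pairH J
  let J' : Ideal (PairH (R s) J) := J.map (algebraMap (R s) _)
  obtain ⟨ψ, hψ, -⟩ := huniv A I (R s).subtype ‹_› Ideal.map_comap_le
  have hJ' : J'.map ψ ≤ I := by
    rw [Ideal.map_map, hψ]
    exact Ideal.map_comap_le
  let g₀ : D.obj j ⟶ Spec (CommRingCat.of (R s)) := stageSnd D0 f₀ j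
  have : IsProper g₀ := hsnd j
  let b := Spec.map (CommRingCat.ofHom (algebraMap (R s) (PairH (R s) J)))
  let Φ : MA A M ⟶ pullback g₀ b :=
    pullback.lift (c.π.app j) (gA A M ≫ Spec.map (CommRingCat.ofHom ψ)) (by
      rw [Category.assoc, ← Spec.map_comp, ← CommRingCat.ofHom_comp, hψ]
      exact stageProj_snd f₀ c0 q (gA A M) sq j)
  let T' : Closeds ↥(pullback g₀ b) := ⟨closure (Φ '' T), isClosed_closure⟩
  let ι := (Scheme.IdealSheafData.vanishingIdeal T').subschemeι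
  have hι : Set.range ι = closure (Φ '' T) := by
    simp only [ι, Scheme.IdealSheafData.range_subschemeι,
      Scheme.IdealSheafData.coe_support_vanishingIdeal, T']
    rfl
  have hfst : pullback.fst g₀ b '' closure (Φ '' T) ⊆ closure (c.π.app j '' T) := by
    refine (image_closure_subset_closure_image (pullback.fst g₀ b).continuous).trans (closure_mono ?_)
    rintro _ ⟨_, ⟨t, ht, rfl⟩, rfl⟩
    exact ⟨t, ht, congrArg (fun (m : MA A M ⟶ D.obj j) => m t) (pullback.lift_fst _ _ _).symm⟩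
  let g : _ ⟶ Spec (CommRingCat.of (PairH (R s) J)) := ι ≫ pullback.snd g₀ b
  let S : Set _ := g ⁻¹' PrimeSpectrum.zeroLocus (J' : Set _)
  let Wp : Set S := {y | pullback.fst g₀ b (ι y.1) ∈ W}
  have hcovW : ∀ y : S, pullback.fst g₀ b (ι y.1) ∈ W ∪ W' := fun y => by
    refine hZW ⟨hfst ⟨_, hι ▸ ⟨y.1, rfl⟩, rfl⟩, fun a ha => ?_⟩
    have h : g₀ (pullback.fst g₀ b (ι y.1)) = b (pullback.snd g₀ b (ι y.1)) :=
      congrArg (fun (m : pullback g₀ b ⟶ _) => m (ι y.1)) pullback.condition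
    change a ∈ (g₀ (pullback.fst g₀ b (ι y.1))).asIdeal
    rw [h]
    exact y.2 (Ideal.mem_map_of_mem _ ha)
  have hWp : IsClopen Wp := by
    have hcont : Continuous fun y : S => pullback.fst g₀ b (ι y.1) :=
      (pullback.fst g₀ b).continuous.comp (ι.continuous.comp continuous_subtype_val)
    refine ⟨hW.preimage hcont, ?_⟩
    have : Wp = ((fun y : S => pullback.fst g₀ b (ι y.1)) ⁻¹' W')ᶜ := by
      ext y
      exact ⟨fun h h' => Set.disjoint_left.1 hWW' h h', fun h => (hcovW y).resolve_right h⟩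
    rw [this]
    exact (hW'.preimage hcont).isOpen_compl
  obtain ⟨U, ⟨hU, hUW⟩, -⟩ := FormalClopen.lifts_preimage_zeroLocus J' g Wp hWp
  refine ⟨Φ ⁻¹' (ι '' U), Φ ⁻¹' (ι '' Uᶜ),
    (ι.isClosedEmbedding.isClosedMap _ hU.1).preimage Φ.continuous,
    (ι.isClosedEmbedding.isClosedMap _ hU.compl.1).preimage Φ.continuous, ?_, fun t ht => ?_, ?_, ?_⟩
  · refine Disjoint.preimage _ (Set.disjoint_left.2 ?_)
    rintro _ ⟨y, hy, rfl⟩ ⟨y', hy', he⟩
    exact hy' (ι.isClosedEmbedding.injective he ▸ hy)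
  · obtain ⟨y, hy⟩ : Φ t ∈ Set.range ι := hι ▸ subset_closure ⟨t, ht, rfl⟩
    by_cases hyU : y ∈ U
    · exact Or.inl ⟨y, hyU, hy⟩
    · exact Or.inr ⟨y, hyU, hy⟩
  all_goals
    intro t ht
    have htT : t ∈ T ∩ gA A M ⁻¹' PrimeSpectrum.zeroLocus (I : Set A) := by
      rw [hTV]; first | exact Or.inl ht | exact Or.inr ht
    obtain ⟨y, hy⟩ : Φ t ∈ Set.range ι := hι ▸ subset_closure ⟨t, htT.1, rfl⟩
    have hyS : y ∈ S := by
      change pullback.snd g₀ b (ι y) ∈ PrimeSpectrum.zeroLocus (J' : Set _)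
      rw [hy]
      have h : pullback.snd g₀ b (Φ t) = PrimeSpectrum.comap ψ (gA A M t) :=
        congrArg (fun (m : MA A M ⟶ _) => m t) (pullback.lift_snd _ _ _)
      rw [h]
      intro a ha
      exact htT.2 (hJ' (Ideal.mem_map_of_mem ψ ha))
    have hπ : pullback.fst g₀ b (ι y) = c.π.app j t := by
      rw [hy]
      exact congrArg (fun (m : MA A M ⟶ D.obj j) => m t) (pullback.lift_fst _ _ _)
  · exact ⟨y, (Set.ext_iff.1 hUW ⟨y, hyS⟩).2 (show _ ∈ W from hπ ▸ hVW ht), hy⟩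
  · exact ⟨y, fun hyU => Set.disjoint_left.1 hWW' ((Set.ext_iff.1 hUW ⟨y, hyS⟩).1 hyU)
      (hπ ▸ hVW' ht), hy⟩

/-- The case of closed subsets of `M ×_ℤ A`. -/
theorem exists_lift_of_proper_int {M : Scheme.{u}} (hM : IsProper (toZ M))
    (T : Set (MA A M)) (hT : IsClosed T) (V V' : Set (MA A M)) (hV : IsClosed V) (hV' : IsClosed V')
    (hd : Disjoint V V') (hTV : T ∩ gA A M ⁻¹' PrimeSpectrum.zeroLocus (I : Set A) = V ∪ V') :
    ∃ C C' : Set (MA A M), IsClosed C ∧ IsClosed C' ∧ Disjoint C C' ∧ T ⊆ C ∪ C' ∧ V ⊆ C ∧ V' ⊆ C' := by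
  classical
  exact exists_lift_of_system I (fgRing A) (fun a => ⟨{a}, fgRing_eq A {a} ▸
    Subring.subset_closure (Finset.mem_coe.2 (Finset.mem_singleton_self a))⟩) hM T hT V V' hV hV' hd hTV

omit [HenselianRing A I] in
theorem exists_mem_zeroLocus_of_isClosed [h : HenselianRing A I] {C : Set (PrimeSpectrum A)}
    (hC : IsClosed C) (hne : C.Nonempty) : ∃ p ∈ C, p ∈ PrimeSpectrum.zeroLocus (I : Set A) := by
  obtain ⟨p, hp⟩ := hne
  obtain ⟨m, hm, hpm⟩ := p.asIdeal.exists_le_maximal p.isPrime.ne_top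
  refine ⟨⟨m, hm.isPrime⟩, (PrimeSpectrum.le_iff_specializes p ⟨m, hm.isPrime⟩).1 hpm |>.mem_closed hC hp, ?_⟩
  exact fun a ha => (h.jac.trans (sInf_le ⟨bot_le, hm⟩)) ha

/-- Open-closed subsets of the closed fibre of a proper scheme over a henselian pair lift. -/
theorem exists_clopen_lift {X : Scheme.{u}} (f : X ⟶ Spec (CommRingCat.of A)) [IsProper f]
    (U U' : Set X) (hU : IsClosed U) (hU' : IsClosed U') (hd : Disjoint U U')
    (hUU' : f ⁻¹' PrimeSpectrum.zeroLocus (I : Set A) = U ∪ U') :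
    ∃ D : Set X, IsClopen D ∧ U ⊆ D ∧ U' ⊆ Dᶜ := by
  classical
  obtain ⟨κ, hκ, M, hM, E, hE, hinj, hcov⟩ := exists_chow_cover f
  let P := fun s => pullback f (gA A (M s))
  let p₁ := fun s => pullback.fst f (gA A (M s))
  let p₂ := fun s => pullback.snd f (gA A (M s))
  have : ∀ s, IsProper (gA A (M s)) := fun s => by
    have := hM s
    infer_instance
  have hcl₁ : ∀ s, IsClosedMap (p₁ s) := fun s => (p₁ s).isClosedMap
  have hcl₂ : ∀ s, IsClosedMap (p₂ s) := fun s => (p₂ s).isClosedMap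
  have hcomm : ∀ s (z : P s), gA A (M s) (p₂ s z) = f (p₁ s z) := fun s z =>
    congrArg (fun (m : P s ⟶ _) => m z) pullback.condition.symm
  have hC : ∀ s, ∃ C C' : Set (MA A (M s)), IsClosed C ∧ IsClosed C' ∧ Disjoint C C' ∧
      p₂ s '' E s ⊆ C ∪ C' ∧ p₂ s '' (E s ∩ p₁ s ⁻¹' U) ⊆ C ∧ p₂ s '' (E s ∩ p₁ s ⁻¹' U') ⊆ C' := by
    intro s
    refine exists_lift_of_proper_int I (hM s) _ (hcl₂ s _ (hE s)) _ _
      (hcl₂ s _ ((hE s).inter (hU.preimage (p₁ s).continuous)))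
      (hcl₂ s _ ((hE s).inter (hU'.preimage (p₁ s).continuous))) ?_ ?_
    · refine Set.disjoint_left.2 ?_
      rintro _ ⟨z, hz, rfl⟩ ⟨z', hz', he⟩
      obtain rfl := hinj s hz'.1 hz.1 he
      exact Set.disjoint_left.1 hd hz.2 hz'.2
    · ext y
      constructor
      · rintro ⟨⟨z, hz, rfl⟩, hy⟩
        rw [Set.mem_preimage, hcomm] at hy
        have : p₁ s z ∈ U ∪ U' := (Set.ext_iff.1 hUU' _).1 hy
        rcases this with h | h
        · exact Or.inl ⟨z, ⟨hz, h⟩, rfl⟩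
        · exact Or.inr ⟨z, ⟨hz, h⟩, rfl⟩
      · rintro (⟨z, hz, rfl⟩ | ⟨z, hz, rfl⟩) <;> refine ⟨⟨z, hz.1, rfl⟩, ?_⟩ <;>
          rw [Set.mem_preimage, hcomm] <;>
          refine (Set.ext_iff.1 hUU' (p₁ s z)).2 ?_
        · exact Or.inl hz.2
        · exact Or.inr hz.2
  choose C C' hCc hC'c hCC' hEC hUC hUC' using hC
  let D : Set X := ⋃ s, p₁ s '' (E s ∩ p₂ s ⁻¹' C s)
  let D' : Set X := ⋃ s, p₁ s '' (E s ∩ p₂ s ⁻¹' C' s)
  have hDc : IsClosed D := isClosed_iUnion_of_finite fun s =>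
    hcl₁ s _ ((hE s).inter ((hCc s).preimage (p₂ s).continuous))
  have hD'c : IsClosed D' := isClosed_iUnion_of_finite fun s =>
    hcl₁ s _ ((hE s).inter ((hC'c s).preimage (p₂ s).continuous))
  have hdd : ∀ x, f x ∈ PrimeSpectrum.zeroLocus (I : Set A) → x ∈ D → x ∉ U' := by
    intro x _ hx hxU'
    obtain ⟨s, z, ⟨hz, hzC⟩, rfl⟩ := Set.mem_iUnion.1 hx
    exact Set.disjoint_left.1 (hCC' s) hzC (hUC' s ⟨z, ⟨hz, hxU'⟩, rfl⟩)
  have hdd' : ∀ x, f x ∈ PrimeSpectrum.zeroLocus (I : Set A) → x ∈ D' → x ∉ U := by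
    intro x _ hx hxU
    obtain ⟨s, z, ⟨hz, hzC⟩, rfl⟩ := Set.mem_iUnion.1 hx
    exact Set.disjoint_left.1 (hCC' s) (hUC s ⟨z, ⟨hz, hxU⟩, rfl⟩) hzC
  have hdisj : D ∩ D' = ∅ := by
    by_contra h
    obtain ⟨p, ⟨x, hx, rfl⟩, hp⟩ := exists_mem_zeroLocus_of_isClosed I
      (f.isClosedMap _ (hDc.inter hD'c)) ((Set.nonempty_iff_ne_empty.2 h).image f)
    have : x ∈ U ∪ U' := hUU' ▸ hp
    rcases this with h' | h'
    · exact hdd' x hp hx.2 h'
    · exact hdd x hp hx.1 h'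
  have hcover : ∀ x, x ∈ D ∨ x ∈ D' := fun x => by
    obtain ⟨s, z, hz, rfl⟩ := hcov x
    rcases hEC s ⟨z, hz, rfl⟩ with h | h
    · exact Or.inl (Set.mem_iUnion.2 ⟨s, z, ⟨hz, h⟩, rfl⟩)
    · exact Or.inr (Set.mem_iUnion.2 ⟨s, z, ⟨hz, h⟩, rfl⟩)
  have hDD' : D = D'ᶜ := Set.ext fun x =>
    ⟨fun h h' => Set.eq_empty_iff_forall_notMem.1 hdisj x ⟨h, h'⟩, fun h => (hcover x).resolve_right h⟩
  refine ⟨D, ⟨hDc, hDD' ▸ hD'c.isOpen_compl⟩, fun x hx => ?_, fun x hx hxD => ?_⟩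
  · exact (hcover x).resolve_right fun h =>
      hdd' x ((Set.ext_iff.1 hUU' x).2 (Or.inl hx)) h hx
  · exact hdd x ((Set.ext_iff.1 hUU' x).2 (Or.inr hx)) hxD hx

end Groth.Agent.Et18.ProperClopen
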